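import Mathlib

set_option autoImplicit false

namespace Cfsg.Agent.H50.QuadExt

open Polynomial

/-- For a field `F` with `q` elements, a field `K` with `q ^ 2` elements, and an anisotropic binary
quadratic form `z₁² + a z₁ z₂ + c z₂²` over `F`, there is an embedding `φ : F → K` and two distinct
elements `α β` of `K` with `z₁² + a z₁ z₂ + c z₂² = (z₁ - α z₂)(z₁ - β z₂)` over `K`. -/
theorem exists_roots {F K : Type*} [Field F] [Fintype F] [Field K] [Fintype K] {q : ℕ}
    (hF : Fintype.card F = q) (hK : Fintype.card K = q ^ 2) (a c : F)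
    (hac : ∀ z₁ z₂ : F, z₁ ^ 2 + a * z₁ * z₂ + c * z₂ ^ 2 = 0 → z₁ = 0 ∧ z₂ = 0) :
    ∃ (φ : F →+* K) (α β : K), α ≠ β ∧ φ a = -(α + β) ∧ φ c = α * β := by
  classical
  set f : F[X] := X ^ 2 + C a * X + C c with hf
  have hmonic : f.Monic := by
    rw [hf]; monicity!
  have hdeg : f.natDegree = 2 := by
    rw [hf]; compute_degree!
  have hnoroot : ∀ z : F, z ^ 2 + a * z + c ≠ 0 := by
    intro z hz
    have := (hac z 1 (by rw [← hz]; ring)).2
    exact one_ne_zero this
  have hirr : Irreducible f := by
    rw [hmonic.irreducible_iff_roots_eq_zero_of_degree_le_three (by omega) (by omega)]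
    rw [Multiset.eq_zero_iff_forall_notMem]
    intro z hz
    rw [mem_roots hmonic.ne_zero, IsRoot.def] at hz
    apply hnoroot z
    rw [← hz, hf]; simp
  have : Fact (Irreducible f) := ⟨hirr⟩
  let E := AdjoinRoot f
  have : Module.Finite F E := (AdjoinRoot.powerBasis hmonic.ne_zero).finite
  have : Finite E := Module.finite_of_finite F
  let _ : Fintype E := Fintype.ofFinite E
  have hcardE : Fintype.card E = q ^ 2 := by
    rw [Module.card_eq_pow_finrank (K := F) (V := E), hF,
      (AdjoinRoot.powerBasis hmonic.ne_zero).finrank, AdjoinRoot.powerBasis_dim, hdeg]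
  let ψ : E ≃+* K := FiniteField.ringEquivOfCardEq (hcardE.trans hK.symm)
  let φ : F →+* K := (ψ : E →+* K).comp (AdjoinRoot.of f)
  let α : K := ψ (AdjoinRoot.root f)
  have hroot : α ^ 2 + φ a * α + φ c = 0 := by
    have h0 : (AdjoinRoot.root f) ^ 2 + AdjoinRoot.of f a * AdjoinRoot.root f + AdjoinRoot.of f c = 0 := by
      have := AdjoinRoot.eval₂_root f
      rw [hf] at this
      simpa [eval₂_add, eval₂_mul, eval₂_pow] using this
    have := congrArg ψ h0
    rw [map_add, map_add, map_mul, map_pow, map_zero] at this
    exact this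
  refine ⟨φ, α, -φ a - α, ?_, by ring, ?_⟩
  · intro hαβ
    have h2α : 2 * α = -φ a := by linear_combination hαβ
    by_cases h2 : (2 : F) = 0
    · have h2K : (2 : K) = 0 := by
        have := congrArg φ h2
        rw [map_ofNat, map_zero] at this
        exact this
      have hφa : φ a = 0 := by
        have : -φ a = 0 := by rw [← h2α, h2K, zero_mul]
        simpa using this
      have ha0 : a = 0 := by
        apply φ.injective; rw [hφa, map_zero]
      have : CharP F 2 := CharTwo.of_one_ne_zero_of_two_eq_zero one_ne_zero h2
      obtain ⟨d, hd⟩ := FiniteField.isSquare_of_char_two (ringChar.eq F 2) c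
      have := (hac d 1 (by rw [ha0, hd]; linear_combination (d * d) * h2)).2
      exact one_ne_zero this
    · have hα : α = φ (-a / 2) := by
        have h2K : (2 : K) ≠ 0 := by
          intro h
          apply h2
          apply φ.injective
          rw [map_ofNat, map_zero]
          exact h
        rw [map_div₀, map_neg, map_ofNat, eq_div_iff h2K]
        linear_combination h2α
      apply hnoroot (-a / 2)
      apply φ.injective
      rw [map_zero, map_add, map_add, map_mul, map_pow, ← hα]
      exact hroot
  · linear_combination hroot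

end Cfsg.Agent.H50.QuadExt
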