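import Mathlib
import Cfsg.Agent.H95.FHDefs

/-!
# Feit–Higman project (S1142), piece MULT (helper50)
A nonzero eigenvalue `μ` of `e f e` has a multiplicity `m` with `N = m * Ssum p q n μ`.
-/

set_option autoImplicit false

universe u

namespace Cfsg.Agent.H50.FH

open Matrix Cfsg.Agent.H95.FH

section
variable {Ω : Type u} [Fintype Ω] [DecidableEq Ω]

theorem aeval_mem_of_mul_closed (S : Submodule ℝ (Matrix Ω Ω ℝ)) (h1 : (1 : Matrix Ω Ω ℝ) ∈ S)
    (hmul : ∀ X ∈ S, ∀ Y ∈ S, X * Y ∈ S) (D : Matrix Ω Ω ℝ) (hD : D ∈ S) (L : Polynomial ℝ) :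
    Polynomial.aeval D L ∈ S := by
  have hpow : ∀ i : ℕ, D ^ i ∈ S := by
    intro i
    induction i with
    | zero => simpa using h1
    | succ i ih => rw [pow_succ]; exact hmul _ ih _ hD
  rw [Polynomial.aeval_eq_sum_range]
  exact Submodule.sum_mem _ fun i _ => Submodule.smul_mem _ _ (hpow i)

theorem word_mul_proj (a c F P : Matrix Ω Ω ℝ) (p q μ : ℝ)
    (haP : a * P = p • P) (haFP : a * (F * P) = ((p + 1) * μ) • P - F * P)
    (hcP : c * P = (q + 1) • (F * P) - P) (hcFP : c * (F * P) = q • (F * P)) (k : ℕ) :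
    (alt a c k * P = (alt (a2 p μ) (c2 q) k) 0 0 • P + (alt (a2 p μ) (c2 q) k) 1 0 • (F * P)) ∧
    (alt c a k * P = (alt (c2 q) (a2 p μ) k) 0 0 • P + (alt (c2 q) (a2 p μ) k) 1 0 • (F * P)) := by
  induction k with
  | zero => simp [alt]
  | succ k ih =>
    obtain ⟨ih1, ih2⟩ := ih
    constructor
    · show a * alt c a k * P = (a2 p μ * alt (c2 q) (a2 p μ) k) 0 0 • P +
        (a2 p μ * alt (c2 q) (a2 p μ) k) 1 0 • (F * P)
      have e00 : (a2 p μ * alt (c2 q) (a2 p μ) k) 0 0 =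
          p * (alt (c2 q) (a2 p μ) k) 0 0 + (p + 1) * μ * (alt (c2 q) (a2 p μ) k) 1 0 := by
        simp [a2, Matrix.mul_apply, Fin.sum_univ_two]
      have e10 : (a2 p μ * alt (c2 q) (a2 p μ) k) 1 0 = - (alt (c2 q) (a2 p μ) k) 1 0 := by
        simp [a2, Matrix.mul_apply, Fin.sum_univ_two]
      rw [mul_assoc, ih2, mul_add, Matrix.mul_smul, Matrix.mul_smul, haP, haFP, e00, e10]
      module
    · show c * alt a c k * P = (c2 q * alt (a2 p μ) (c2 q) k) 0 0 • P +
        (c2 q * alt (a2 p μ) (c2 q) k) 1 0 • (F * P)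
      have e00 : (c2 q * alt (a2 p μ) (c2 q) k) 0 0 = - (alt (a2 p μ) (c2 q) k) 0 0 := by
        simp [c2, Matrix.mul_apply, Fin.sum_univ_two]
      have e10 : (c2 q * alt (a2 p μ) (c2 q) k) 1 0 =
          (q + 1) * (alt (a2 p μ) (c2 q) k) 0 0 + q * (alt (a2 p μ) (c2 q) k) 1 0 := by
        simp [c2, Matrix.mul_apply, Fin.sum_univ_two]
      rw [mul_assoc, ih1, mul_add, Matrix.mul_smul, Matrix.mul_smul, hcP, hcFP, e00, e10]
      module

theorem eP_symm (a : Matrix Ω Ω ℝ) (p : ℕ) (ha : aᵀ = a) : (eP a p)ᵀ = eP a p := by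
  simp [eP, ha]

theorem eP_idem (a : Matrix Ω Ω ℝ) (p : ℕ)
    (hsq : a * a = (p : ℝ) • (1 : Matrix Ω Ω ℝ) + ((p : ℝ) - 1) • a) : eP a p * eP a p = eP a p := by
  have hp1 : ((p : ℝ) + 1) ≠ 0 := by positivity
  have h2 : (a + 1) * (a + 1) = ((p : ℝ) + 1) • (a + 1) := by
    rw [add_mul, mul_add, mul_one, one_mul, hsq]
    module
  rw [eP, Matrix.smul_mul, Matrix.mul_smul, h2, smul_smul, smul_smul]
  congr 1
  field_simp

theorem eq_eP (a : Matrix Ω Ω ℝ) (p : ℕ) : a = ((p : ℝ) + 1) • eP a p - 1 := by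
  have hp1 : ((p : ℝ) + 1) ≠ 0 := by positivity
  rw [eP, smul_smul, mul_inv_cancel₀ hp1, one_smul, add_sub_cancel_right]

end

theorem mult (hAlg : AlgStmt.{u}) (hExp : ExpandStmt.{u}) (hSpec : SpecStmt.{u}) :
    MultStmt.{u} := by
  intro Ω _ _ a c p q n H μ hμ hev
  have hp1 : ((p : ℝ) + 1) ≠ 0 := by positivity
  have hq1 : ((q : ℝ) + 1) ≠ 0 := by positivity
  have hEt := eP_symm a p H.symm_a
  have hFt := eP_symm c q H.symm_c
  have hEE := eP_idem a p H.sq_a
  have hFF := eP_idem c q H.sq_c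
  have ha := eq_eP a p
  have hc := eq_eP c q
  obtain ⟨h1A, haA, hcA, hmulA⟩ := hAlg a c p q n H
  have hEA : eP a p ∈ Alg a c n := Submodule.smul_mem _ _ (Submodule.add_mem _ haA h1A)
  have hFA : eP c q ∈ Alg a c n := Submodule.smul_mem _ _ (Submodule.add_mem _ hcA h1A)
  have hDA : DD a c p q ∈ Alg a c n := hmulA _ (hmulA _ hEA _ hFA) _ hEA
  have hDdef : DD a c p q = eP a p * eP c q * eP a p := rfl
  generalize eP a p = E at hEt hEE ha hEA hDdef
  generalize eP c q = F at hFt hFF hc hFA hDdef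
  have hDt : (DD a c p q)ᵀ = DD a c p q := by
    rw [hDdef, Matrix.transpose_mul, Matrix.transpose_mul, hEt, hFt, mul_assoc]
  obtain ⟨L, hPt, hPP, hDP, m, hm, htr⟩ := hSpec (DD a c p q) hDt μ hev
  have hPA : Polynomial.aeval (DD a c p q) L ∈ Alg a c n :=
    aeval_mem_of_mul_closed _ h1A hmulA _ hDA L
  have hexp := hExp a c p q n H _ hPA
  generalize Polynomial.aeval (DD a c p q) L = P at hPt hPP hDP htr hPA hexp
  have hED : E * DD a c p q = DD a c p q := by
    rw [hDdef, ← mul_assoc, ← mul_assoc, hEE]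
  have hEP : E * P = P := by
    have : μ • (E * P) = μ • P := by
      rw [← Matrix.mul_smul, ← hDP, ← mul_assoc, hED]
    exact smul_right_injective _ hμ this
  have hPE : P * E = P := by
    have := congrArg Matrix.transpose hEP
    rwa [Matrix.transpose_mul, hPt, hEt] at this
  have hEFP : E * (F * P) = μ • P := by
    rw [← hDP, hDdef]
    conv_lhs => rw [← hEP]
    simp only [mul_assoc]
  have hPFP : P * (F * P) = μ • P := by
    calc P * (F * P) = (P * E) * (F * (E * P)) := by rw [hPE, hEP]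
      _ = P * (DD a c p q * P) := by rw [hDdef]; simp only [mul_assoc]
      _ = μ • P := by rw [hDP, Matrix.mul_smul, hPP]
  have haP : a * P = (p : ℝ) • P := by
    rw [ha, sub_mul, Matrix.smul_mul, hEP, one_mul]; module
  have haFP : a * (F * P) = (((p : ℝ) + 1) * μ) • P - F * P := by
    rw [ha, sub_mul, Matrix.smul_mul, hEFP, one_mul, smul_smul]
  have hcP : c * P = ((q : ℝ) + 1) • (F * P) - P := by
    rw [hc, sub_mul, Matrix.smul_mul, one_mul]
  have hcFP : c * (F * P) = (q : ℝ) • (F * P) := by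
    rw [hc, sub_mul, Matrix.smul_mul, one_mul, ← mul_assoc, hFF]; module
  have hword := word_mul_proj a c F P p q μ haP haFP hcP hcFP
  have hPBP1 : ∀ k, P * (alt a c k * P) = gam μ (alt (a2 p μ) (c2 q) k) • P := by
    intro k
    rw [(hword k).1, mul_add, Matrix.mul_smul, Matrix.mul_smul, hPP, hPFP, gam]
    module
  have hPBP2 : ∀ k, P * (alt c a k * P) = gam μ (alt (c2 q) (a2 p μ) k) • P := by
    intro k
    rw [(hword k).2, mul_add, Matrix.mul_smul, Matrix.mul_smul, hPP, hPFP, gam]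
    module
  have htrace : ∀ (B : Matrix Ω Ω ℝ) (g : ℝ), P * (B * P) = g • P → (Bᵀ * P).trace = g * m := by
    intro B g hB
    calc (Bᵀ * P).trace = ((Bᵀ * P)ᵀ).trace := (Matrix.trace_transpose _).symm
      _ = (P * B).trace := by rw [Matrix.transpose_mul, Matrix.transpose_transpose, hPt]
      _ = (P * (P * B)).trace := by rw [← mul_assoc, hPP]
      _ = ((P * B) * P).trace := Matrix.trace_mul_comm _ _
      _ = (g • P).trace := by rw [mul_assoc, hB]
      _ = g * m := by rw [Matrix.trace_smul, htr, smul_eq_mul]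
  have hP0 : P ≠ 0 := by
    rintro rfl
    rw [Matrix.trace_zero] at htr
    have : (m : ℝ) ≠ 0 := by exact_mod_cast hm.ne'
    exact this htr.symm
  have hN : (Fintype.card Ω : ℝ) ≠ 0 := by
    haveI := H.ne
    exact_mod_cast Fintype.card_ne_zero
  have hkey : P = ((m : ℝ) / (Fintype.card Ω : ℝ) * Ssum p q n μ) • P := by
    have h4 : P * ((∑ k ∈ Finset.range (n + 1),
          (((alt a c k)ᵀ * P).trace / ((Fintype.card Ω : ℝ) * wt p q k)) • alt a c k +
        ∑ l ∈ Finset.Ico 1 n,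
          (((alt c a l)ᵀ * P).trace / ((Fintype.card Ω : ℝ) * wt q p l)) • alt c a l) * P) =
        ((m : ℝ) / (Fintype.card Ω : ℝ) * Ssum p q n μ) • P := by
      rw [add_mul, mul_add, Finset.sum_mul, Finset.sum_mul, Finset.mul_sum, Finset.mul_sum]
      simp only [Matrix.smul_mul, Matrix.mul_smul, hPBP1, hPBP2, smul_smul]
      rw [← Finset.sum_smul, ← Finset.sum_smul, ← add_smul]
      congr 1
      rw [Ssum, mul_add, Finset.mul_sum, Finset.mul_sum]
      congr 1
      · refine Finset.sum_congr rfl fun k _ => ?_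
        rw [htrace _ _ (hPBP1 k)]
        ring
      · refine Finset.sum_congr rfl fun l _ => ?_
        rw [htrace _ _ (hPBP2 l)]
        ring
    rw [← h4, ← hexp, hPP, hPP]
  have hone : (m : ℝ) / (Fintype.card Ω : ℝ) * Ssum p q n μ = 1 := by
    have h5 : (1 - (m : ℝ) / (Fintype.card Ω : ℝ) * Ssum p q n μ) • P = 0 := by
      rw [sub_smul, one_smul, ← hkey, sub_self]
    rcases smul_eq_zero.mp h5 with h6 | h6
    · linarith
    · exact absurd h6 hP0
  refine ⟨m, hm, ?_⟩
  field_simp at hone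
  linarith

example (hAlg : AlgStmt.{u}) (hExp : ExpandStmt.{u}) (hSpec : SpecStmt.{u}) : MultStmt.{u} :=
  mult hAlg hExp hSpec

end Cfsg.Agent.H50.FH
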