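import Mathlib
import Cfsg.Agent.H49.Spinor

set_option autoImplicit false

/-! helper50: the spinor sign (sign of the action on the unit sphere, helper49's `spinSign`)
is invariant under an entrywise field automorphism that preserves the quadratic form. -/

namespace Cfsg.Agent.H50.SpinSig

open Matrix Cfsg.Agent.H49

variable {ι : Type} [Fintype ι] [DecidableEq ι] {F : Type*} [Field F] [Fintype F] [DecidableEq F]

/-- The bijection of the unit sphere induced by an entrywise field automorphism preserving `Q`. -/
def sphereSigma (Q : QuadraticForm F (ι → F)) (σ : F ≃+* F)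
    (hσ : ∀ v : ι → F, Q (fun i => σ (v i)) = σ (Q v)) : Sphere Q ≃ Sphere Q where
  toFun x := ⟨fun i => σ (x.1 i), by rw [hσ, x.2, map_one]⟩
  invFun x := ⟨fun i => σ.symm (x.1 i), by
    have h := hσ (fun i => σ.symm (x.1 i))
    simp only [RingEquiv.apply_symm_apply] at h
    have hx : Q x.1 = 1 := x.2
    have h' : Q (fun i => x.1 i) = 1 := hx
    rw [h'] at h
    apply σ.injective
    rw [← h, map_one]⟩
  left_inv x := by
    apply Subtype.ext
    funext i
    simp
  right_inv x := by
    apply Subtype.ext
    funext i
    simp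

/-- `spinSign` is invariant under an entrywise field automorphism preserving the form. -/
theorem spinSign_map_sigma (Q : QuadraticForm F (ι → F)) (σ : F ≃+* F)
    (hσ : ∀ v : ι → F, Q (fun i => σ (v i)) = σ (Q v))
    (g g' : ↥(Cfsg.isometryGroup F (⇑Q)))
    (hg : ((g' : Matrix.GeneralLinearGroup ι F) : Matrix ι ι F)
      = ((g : Matrix.GeneralLinearGroup ι F) : Matrix ι ι F).map σ) :
    spinSign Q g' = spinSign Q g := by
  have key : spherePerm Q g'
      = ((sphereSigma Q σ hσ).symm.trans (spherePerm Q g)).trans (sphereSigma Q σ hσ) := by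
    apply Equiv.ext
    intro x
    apply Subtype.ext
    rw [spherePerm_apply]
    show _ = fun i => σ ((((g : Matrix.GeneralLinearGroup ι F) : Matrix ι ι F)
      *ᵥ (fun j => σ.symm (x.1 j))) i)
    rw [hg]
    funext i
    simp only [Matrix.mulVec, dotProduct, Matrix.map_apply, map_sum, map_mul,
      RingEquiv.apply_symm_apply]
  show Equiv.Perm.sign (spherePerm Q g') = Equiv.Perm.sign (spherePerm Q g)
  rw [key, Equiv.Perm.sign_symm_trans_trans]

end Cfsg.Agent.H50.SpinSig

#print axioms Cfsg.Agent.H50.SpinSig.spinSign_map_sigma
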